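import Cfsg.Agent.Lib.Recognition.SelfNormal.Basic
import Cfsg.Agent.Lib.Classical.SL2Sylow
import Cfsg.Agent.S0182
import Cfsg.Agent.S2202

/-!
A non-abelian simple group with all non-abelian subgroups self-normalising is `SL₂(2ⁿ)` with `2ⁿ - 1` prime,
and conversely.
-/

set_option autoImplicit false
set_option linter.style.haveILetI false
set_option backward.isDefEq.respectTransparency false

open Matrix
open scoped MatrixGroups

namespace CfsgLib.Recognition.SelfNormal

open Subgroup (centralizer normalizer zpowers)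

section SL2

variable {F : Type*} [Field F] [CharP F 2]

local notation "M2" => Matrix (Fin 2) (Fin 2) F

theorem cmul (g h : SL(2, F)) : ((g * h : SL(2, F)) : M2) = (g : M2) * (h : M2) := rfl

theorem cinv (g : SL(2, F)) : ((g⁻¹ : SL(2, F)) : M2) = Matrix.adjugate (g : M2) := rfl

theorem cone : ((1 : SL(2, F)) : M2) = 1 := rfl

/-- The matrices commuting with a non-identity element are its polynomials. -/
theorem exists_coeff {a g : SL(2, F)} (ha : a ≠ 1) (h : g * a = a * g) :
    ∃ x y : F, (g : M2) = x • (1 : M2) + y • (a : M2) := by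
  have e : (g : M2) * (a : M2) = (a : M2) * (g : M2) := by
    rw [← cmul, h, cmul]
  have e00 := congrFun (congrFun e 0) 0
  have e01 := congrFun (congrFun e 0) 1
  have e10 := congrFun (congrFun e 1) 0
  simp only [Matrix.mul_apply, Fin.sum_univ_two] at e00 e01 e10
  set A := (a : M2)
  set B := (g : M2)
  have fin : ∀ x y : F, B 0 0 = x + y * A 0 0 → B 0 1 = y * A 0 1 → B 1 0 = y * A 1 0 → B 1 1 = x + y * A 1 1 →
      ∃ x y : F, B = x • (1 : M2) + y • A := fun x y h1 h2 h3 h4 => by
    refine ⟨x, y, ?_⟩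
    ext i j
    fin_cases i <;> fin_cases j <;> simpa [Matrix.one_apply]
  by_cases h01 : A 0 1 = 0
  · by_cases h10 : A 1 0 = 0
    · have hd : A 0 0 - A 1 1 ≠ 0 := fun hd => by
        refine ha (Subtype.ext ?_)
        have hdet : A 0 0 * A 1 1 - A 0 1 * A 1 0 = 1 := by rw [← Matrix.det_fin_two]; exact a.2
        rw [h01, sub_eq_zero.mp hd] at hdet
        have h1 : A 1 1 = 1 := by
          have h' : (A 1 1 - 1) * (A 1 1 - 1) = 0 := by
            linear_combination hdet + (1 - A 1 1) * (CharTwo.two_eq_zero (R := F))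
          exact sub_eq_zero.mp (mul_self_eq_zero.mp h')
        show A = 1
        ext i j
        fin_cases i <;> fin_cases j <;> simp [Matrix.one_apply, h01, h10, h1, sub_eq_zero.mp hd]
      have b01 : B 0 1 = 0 := by
        refine (mul_eq_zero.mp (?_ : (A 0 0 - A 1 1) * B 0 1 = 0)).resolve_left hd
        linear_combination -e01 + (B 0 0 - B 1 1) * h01
      have b10 : B 1 0 = 0 := by
        refine (mul_eq_zero.mp (?_ : (A 0 0 - A 1 1) * B 1 0 = 0)).resolve_left hd
        linear_combination e10 - (B 1 1 - B 0 0) * h10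
      refine fin (B 0 0 - (B 0 0 - B 1 1) / (A 0 0 - A 1 1) * A 0 0) ((B 0 0 - B 1 1) / (A 0 0 - A 1 1))
        (by ring) (by rw [b01, h01]; ring) (by rw [b10, h10]; ring) (by field_simp; ring)
    · refine fin (B 0 0 - B 1 0 / A 1 0 * A 0 0) (B 1 0 / A 1 0) (by ring) ?_ (by field_simp) ?_
      · rw [h01, zero_mul] at e00
        rw [h01, mul_zero]
        exact (mul_eq_zero.mp (by linear_combination e00 : B 0 1 * A 1 0 = 0)).resolve_right h10
      · field_simp
        linear_combination e10
  · refine fin (B 0 0 - B 0 1 / A 0 1 * A 0 0) (B 0 1 / A 0 1) (by ring) (by field_simp) ?_ ?_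
    · field_simp
      linear_combination -e00
    · field_simp
      linear_combination -e01

theorem ca {a g h : SL(2, F)} (ha : a ≠ 1) (hg : g * a = a * g) (hh : h * a = a * h) : g * h = h * g := by
  obtain ⟨x, y, e⟩ := exists_coeff ha hg
  obtain ⟨x', y', e'⟩ := exists_coeff ha hh
  refine Subtype.ext ?_
  rw [cmul, cmul, e, e']
  simp only [add_mul, mul_add, smul_mul_assoc, mul_smul_comm, one_mul, mul_one]
  module

theorem centralizer_comm_sl {a : SL(2, F)} (ha : a ≠ 1) :
    IsMulCommutative ↥(centralizer ({a} : Set SL(2, F))) :=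
  isMulCommutative_of fun _ hg _ hh =>
    ca ha (Subgroup.mem_centralizer_singleton_iff.mp hg) (Subgroup.mem_centralizer_singleton_iff.mp hh)

theorem normalizer_conj_mem {a g : SL(2, F)} (hg : g ∈ normalizer ((centralizer ({a} : Set SL(2, F))) : Set SL(2, F))) :
    g * a * g⁻¹ * a = a * (g * a * g⁻¹) :=
  Subgroup.mem_centralizer_singleton_iff.mp
    ((Subgroup.mem_normalizer_iff.mp hg a).mp (Subgroup.mem_centralizer_singleton_iff.mpr rfl))

/-- A conjugate of `a` commuting with it, written as a polynomial. -/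
theorem conj_coeff {a b : SL(2, F)} {x y : F} (e : (b : M2) = x • (1 : M2) + y • (a : M2))
    (htr : (b : M2).trace = (a : M2).trace) :
    y * (a : M2).trace = (a : M2).trace ∧ x * x + x * y * (a : M2).trace + y * y = 1 := by
  have hdet : (a : M2) 0 0 * (a : M2) 1 1 - (a : M2) 0 1 * (a : M2) 1 0 = 1 := by
    rw [← Matrix.det_fin_two]; exact a.2
  have hdb : (b : M2).det = 1 := b.2
  rw [e, Matrix.det_fin_two] at hdb
  rw [e, Matrix.trace_fin_two, Matrix.trace_fin_two] at htr
  rw [Matrix.trace_fin_two]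
  simp [Matrix.one_apply] at hdb htr
  refine ⟨?_, ?_⟩
  · linear_combination htr - x * (CharTwo.two_eq_zero (R := F))
  · linear_combination hdb - y * y * hdet

theorem trace_conj (a g : SL(2, F)) : ((g * a * g⁻¹ : SL(2, F)) : M2).trace = (a : M2).trace := by
  rw [cmul, cmul, Matrix.trace_mul_cycle,
    ← cmul, inv_mul_cancel, cone, Matrix.one_mul]

variable [Fintype F]

/-- The index of a centraliser in its normaliser. -/
theorem index_cases (hr : (Fintype.card F - 1).Prime) {a : SL(2, F)} (ha : a ≠ 1) :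
    (centralizer ({a} : Set SL(2, F))).relIndex (normalizer ((centralizer ({a} : Set SL(2, F))) : Set SL(2, F))) = 1 ∨
    ((centralizer ({a} : Set SL(2, F))).relIndex
      (normalizer ((centralizer ({a} : Set SL(2, F))) : Set SL(2, F)))).Prime := by
  classical
  set T := centralizer ({a} : Set SL(2, F)) with hT
  set N := normalizer (T : Set SL(2, F)) with hN
  have hmemT : ∀ g : SL(2, F), g * a * g⁻¹ = a → g ∈ T := fun g h =>
    Subgroup.mem_centralizer_singleton_iff.mpr (mul_inv_eq_iff_eq_mul.mp h)
  have hex : ∀ g : N, ∃ x y : F, (((g : SL(2, F)) * a * (g : SL(2, F))⁻¹ : SL(2, F)) : M2) = x • (1 : M2) + y • (a : M2) :=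
    fun g => exists_coeff ha (normalizer_conj_mem g.2)
  choose X Y hXY using hex
  by_cases ht : (a : M2).trace = 0
  · -- the unipotent case
    have hsum : ∀ g, X g = 1 - Y g := fun g => by
      obtain ⟨-, h2⟩ := conj_coeff (hXY g) (trace_conj a _)
      rw [ht, mul_zero, add_zero] at h2
      have h' : (X g + Y g - 1) * (X g + Y g - 1) = 0 := by
        linear_combination h2 + (X g * Y g - X g - Y g + 1) * (CharTwo.two_eq_zero (R := F))
      linear_combination (mul_self_eq_zero.mp h')
    have hne : (a : M2) - 1 ≠ 0 := fun h => ha (Subtype.ext (sub_eq_zero.mp h))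
    have hN1 : ∀ g : N, ((g : SL(2, F)) : M2) * ((a : M2) - 1) * (((g : SL(2, F))⁻¹ : SL(2, F)) : M2) =
        Y g • ((a : M2) - 1) := fun g => by
      rw [mul_sub, sub_mul, mul_one, ← cmul, ← cmul,
        ← cmul, mul_inv_cancel, cone, hXY g, hsum g, smul_sub, sub_smul,
        one_smul]
      abel
    have huniq : ∀ y z : F, y • ((a : M2) - 1) = z • ((a : M2) - 1) → y = z := fun y z h =>
      sub_eq_zero.mp ((smul_eq_zero.mp (show (y - z) • ((a : M2) - 1) = 0 by rw [sub_smul, h, sub_self])).resolve_right hne)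
    have h1 : Y 1 = 1 := huniq _ _ (by rw [← hN1 1]; simp)
    have hmul : ∀ g h, Y (g * h) = Y g * Y h := fun g h => huniq _ _ (by
      have e1 := hN1 (g * h)
      rw [Subgroup.coe_mul, _root_.mul_inv_rev, cmul, cmul] at e1
      rw [← e1, mul_comm (Y g) (Y h), mul_smul, ← hN1 g, ← smul_mul_assoc, ← mul_smul_comm, ← hN1 h]
      simp only [mul_assoc])
    let φ : N →* Fˣ := MonoidHom.toHomUnits { toFun := Y, map_one' := h1, map_mul' := hmul }
    have hker : φ.ker = T.subgroupOf N := by
      ext g
      rw [MonoidHom.mem_ker, Subgroup.mem_subgroupOf, Units.ext_iff]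
      constructor
      · intro (h : Y g = 1)
        refine hmemT g (Subtype.ext ?_)
        rw [hXY g, hsum g, h, sub_self, zero_smul, zero_add, one_smul]
      · intro h
        show Y g = 1
        refine huniq _ _ ?_
        rw [← hN1 g, one_smul, mul_sub, sub_mul, mul_one, ← cmul, ← cmul,
          ← cmul, mul_inv_cancel, cone,
          Subgroup.mem_centralizer_singleton_iff.mp h, mul_inv_cancel_right]
    have hd : T.relIndex N ∣ Fintype.card F - 1 := by
      rw [Subgroup.relIndex, ← hker, Subgroup.index_ker, ← Fintype.card_units, ← Nat.card_eq_fintype_card]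
      exact Subgroup.card_subgroup_dvd_card _
    rcases (Nat.dvd_prime hr).mp hd with h | h
    · exact Or.inl h
    · exact Or.inr (h ▸ hr)
  · -- the toral case
    have hY : ∀ g, Y g = 1 := fun g => by
      obtain ⟨h1, -⟩ := conj_coeff (hXY g) (trace_conj a _)
      exact mul_right_cancel₀ ht (h1.trans (one_mul _).symm)
    have hX : ∀ g : N, (g : SL(2, F)) ∉ T → X g = (a : M2).trace := fun g hg => by
      obtain ⟨-, h2⟩ := conj_coeff (hXY g) (trace_conj a _)
      rw [hY] at h2
      have h' : X g * (X g + (a : M2).trace) = 0 := by linear_combination h2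
      rcases mul_eq_zero.mp h' with h | h
      · exact absurd (hmemT g (Subtype.ext (by rw [hXY g, h, hY, zero_smul, zero_add, one_smul]))) hg
      · linear_combination h - (a : M2).trace * (CharTwo.two_eq_zero (R := F))
    haveI : (T.subgroupOf N).Normal := Subgroup.normal_subgroupOf_of_le_normalizer le_rfl
    have hle : Nat.card (N ⧸ T.subgroupOf N) ≤ 2 := by
      cases nonempty_fintype (N ⧸ T.subgroupOf N)
      rw [Nat.card_eq_fintype_card]
      have hsub : ∀ u v : N ⧸ T.subgroupOf N, u ≠ 1 → v ≠ 1 → u = v := by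
        intro u v
        induction u using QuotientGroup.induction_on with
        | H g =>
          induction v using QuotientGroup.induction_on with
          | H h =>
            intro hu hv
            have hg : (g : SL(2, F)) ∉ T := fun hh => hu ((QuotientGroup.eq_one_iff g).mpr (Subgroup.mem_subgroupOf.mpr hh))
            have hh : (h : SL(2, F)) ∉ T := fun hh => hv ((QuotientGroup.eq_one_iff h).mpr (Subgroup.mem_subgroupOf.mpr hh))
            have e : (g : SL(2, F)) * a * (g : SL(2, F))⁻¹ = h * a * (h : SL(2, F))⁻¹ :=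
              Subtype.ext (by rw [hXY g, hXY h, hX g hg, hX h hh, hY, hY])
            refine QuotientGroup.eq.mpr (Subgroup.mem_subgroupOf.mpr (hmemT _ ?_))
            push_cast
            calc (g : SL(2, F))⁻¹ * h * a * ((g : SL(2, F))⁻¹ * h)⁻¹
                = (g : SL(2, F))⁻¹ * (h * a * (h : SL(2, F))⁻¹) * g := by group
              _ = a := by rw [← e]; group
      by_cases hall : ∀ u : N ⧸ T.subgroupOf N, u = 1
      · have := Fintype.card_le_one_iff.mpr fun u v => (hall u).trans (hall v).symm
        omega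
      · push Not at hall
        obtain ⟨w, hw⟩ := hall
        calc Fintype.card (N ⧸ T.subgroupOf N) = (Finset.univ : Finset (N ⧸ T.subgroupOf N)).card := rfl
          _ ≤ ({1, w} : Finset (N ⧸ T.subgroupOf N)).card := Finset.card_le_card fun u _ => by
              by_cases hu : u = 1
              · simp [hu]
              · simp [hsub u w hu hw]
          _ ≤ 2 := Finset.card_le_two
    have hpos : 0 < Nat.card (N ⧸ T.subgroupOf N) := Nat.card_pos
    rw [Subgroup.relIndex, Subgroup.index_eq_card]
    interval_cases Nat.card (N ⧸ T.subgroupOf N)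
    · exact Or.inl rfl
    · exact Or.inr Nat.prime_two

theorem prime_of_hyp (h4 : 4 ≤ Fintype.card F) (h : Hyp SL(2, F)) : (Fintype.card F - 1).Prime := by
  classical
  obtain ⟨d, hd, hdd⟩ := Nat.exists_prime_and_dvd (show Fintype.card F - 1 ≠ 1 by omega)
  haveI := Fact.mk hd
  obtain ⟨α, hα⟩ := exists_prime_orderOf_dvd_card (G := Fˣ) d (by rwa [Fintype.card_units])
  let H : Subgroup SL(2, F) :=
    { carrier := {g | (g : M2) 1 0 = 0 ∧ (g : M2) 0 0 ^ d = 1}
      one_mem' := by simp
      mul_mem' := fun {g k} ⟨hg, hg'⟩ ⟨hk, hk'⟩ => by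
        refine ⟨?_, ?_⟩ <;>
          simp only [cmul, Matrix.mul_apply, Fin.sum_univ_two, hg, hk, zero_mul, mul_zero,
            add_zero, mul_pow, hg', hk', one_mul]
      inv_mem' := fun {g} ⟨hg, hg'⟩ => by
        have hdet : (g : M2) 0 0 * (g : M2) 1 1 - (g : M2) 0 1 * (g : M2) 1 0 = 1 := by
          rw [← Matrix.det_fin_two]; exact g.2
        rw [hg, mul_zero, sub_zero] at hdet
        have h2 := congrArg (· ^ d) hdet
        simp only [mul_pow, hg', one_mul, one_pow] at h2
        refine ⟨?_, ?_⟩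
        · show ((g⁻¹ : SL(2, F)) : M2) 1 0 = 0
          rw [cinv, Matrix.adjugate_fin_two]; simp [hg]
        · show ((g⁻¹ : SL(2, F)) : M2) 0 0 ^ d = 1
          rw [cinv, Matrix.adjugate_fin_two]; simp [h2] }
  let D : Fˣ → SL(2, F) := fun u => ⟨!![(u : F), 0; 0, (u : F)⁻¹], by simp [Matrix.det_fin_two]⟩
  let U : SL(2, F) := ⟨!![1, 1; 0, 1], by simp [Matrix.det_fin_two]⟩
  have hαd : (α : F) ^ d = 1 := by
    rw [← Units.val_pow_eq_pow_val, ← hα, pow_orderOf_eq_one, Units.val_one]
  have hHn : ¬ IsMulCommutative H := by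
    intro hc
    have hcom := congrArg (fun g : SL(2, F) => (g : M2) 0 1) (comm_of hc (a := D α) (b := U)
      ⟨by simp [D], by simpa [D] using hαd⟩ ⟨by simp [U], by simp [U]⟩)
    simp [D, U, Matrix.mul_apply, Fin.sum_univ_two] at hcom
    -- `α = α⁻¹` forces `α = 1`
    have h2 : (α : F) * α = 1 := by
      nth_rw 1 [hcom]
      exact inv_mul_cancel₀ α.ne_zero
    have h1 : ((α : F) - 1) * ((α : F) - 1) = 0 := by
      linear_combination h2 + (1 - (α : F)) * (CharTwo.two_eq_zero (R := F))
    have : α = 1 := Units.ext (sub_eq_zero.mp (mul_self_eq_zero.mp h1))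
    rw [this, orderOf_one] at hα
    exact hd.ne_one hα.symm
  have hself := h H hHn
  have hall : ∀ u : Fˣ, u ^ d = 1 := by
    intro u
    have : D u ∈ normalizer (H : Set SL(2, F)) := by
      refine Subgroup.mem_normalizer_fintype fun g hg => ?_
      obtain ⟨hg1, hg2⟩ := hg
      have hD : ((D u : SL(2, F)) : M2) = !![(u : F), 0; 0, (u : F)⁻¹] := rfl
      refine ⟨?_, ?_⟩
      · rw [cmul, cmul, cinv, hD,
          Matrix.adjugate_fin_two]
        simp [Matrix.mul_apply, Matrix.vecMul, dotProduct, Fin.sum_univ_two, hg1]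
      · rw [cmul, cmul, cinv, hD,
          Matrix.adjugate_fin_two]
        simp [Matrix.mul_apply, Matrix.vecMul, dotProduct, Fin.sum_univ_two, hg1]
        rw [mul_comm (u : F), mul_assoc, mul_inv_cancel₀ u.ne_zero, mul_one]
        exact hg2
    rw [hself] at this
    have h1 : (u : F) ^ d = 1 := by simpa [D] using this.2
    exact Units.ext (by simpa using h1)
  obtain ⟨g, hg⟩ := IsCyclic.exists_generator (α := Fˣ)
  have hgo : orderOf g = Fintype.card F - 1 := by
    rw [orderOf_eq_card_of_forall_mem_zpowers hg, Nat.card_eq_fintype_card, Fintype.card_units]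
  rcases (Nat.dvd_prime hd).mp (hgo ▸ orderOf_dvd_of_pow_eq_one (hall g)) with h' | h'
  · omega
  · exact h' ▸ hd

end SL2

variable {G : Type*} [Group G] [Finite G]

/-- A solvable non-trivial subgroup has a non-trivial abelian subgroup normalised by its normaliser. -/
theorem exists_abelian_char (n : ℕ) : ∀ H : Subgroup G, Nat.card H ≤ n → H ≠ ⊥ → Group.IsSolvable H →
    ∃ A ≤ H, A ≠ ⊥ ∧ IsMulCommutative A ∧ normalizer (H : Set G) ≤ normalizer (A : Set G) := by
  induction n with
  | zero => intro H h; exact absurd h (Nat.not_le.mpr Nat.card_pos)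
  | succ n ih =>
    intro H hn hne hs
    by_cases hc : IsMulCommutative H
    · exact ⟨H, le_rfl, hne, hc, le_rfl⟩
    haveI : Nontrivial H := (Subgroup.nontrivial_iff_ne_bot H).mpr hne
    have hlt : ⁅H, H⁆ < H := by
      have h1 : commutator H < ⊤ := Group.IsSolvable.commutator_lt_top_of_nontrivial (G := H)
      have h2 := Subgroup.map_subtype_commutator H
      refine lt_of_le_of_ne (h2 ▸ Subgroup.map_subtype_le _) fun e => h1.ne ?_
      refine Subgroup.map_injective H.subtype_injective ?_
      rw [h2, e, ← MonoidHom.range_eq_map, H.range_subtype]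
    have hne' : ⁅H, H⁆ ≠ ⊥ := fun e => hc (Subgroup.commutator_self_eq_bot_iff.mp e)
    have hs' : Group.IsSolvable ↥⁅H, H⁆ :=
      Group.isSolvable_of_isSolvable_injective (Subgroup.inclusion_injective hlt.le)
    obtain ⟨A, hA, hA1, hA2, hA3⟩ := ih ⁅H, H⁆ (by
      by_contra hcon
      exact hlt.ne (Subgroup.eq_of_le_of_card_ge hlt.le (by omega))) hne' hs'
    refine ⟨A, hA.trans hlt.le, hA1, hA2, le_trans (fun g hg => ?_) hA3⟩
    refine Subgroup.mem_normalizer_fintype fun x hx => ?_
    have hm : H.map (MulAut.conj g).toMonoidHom = H := by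
      refine Subgroup.eq_of_le_of_card_ge ?_ (Subgroup.card_map_of_injective (MulAut.conj g).injective).ge
      rintro _ ⟨b, hb, rfl⟩
      exact (Subgroup.mem_normalizer_iff.mp hg b).mp hb
    have := Subgroup.mem_map_of_mem (MulAut.conj g).toMonoidHom hx
    rw [Subgroup.map_commutator, hm] at this
    exact this

/-- A group with abelian centralisers, of prime automisers and without proper non-solvable subgroups has all
non-abelian subgroups self-normalising. -/
theorem hyp_of_ca (hca : ∀ a : G, a ≠ 1 → IsMulCommutative ↥(centralizer ({a} : Set G)))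
    (hidx : ∀ a : G, a ≠ 1 →
      (centralizer ({a} : Set G)).relIndex (normalizer ((centralizer ({a} : Set G)) : Set G)) = 1 ∨
      ((centralizer ({a} : Set G)).relIndex (normalizer ((centralizer ({a} : Set G)) : Set G))).Prime)
    (htop : ∀ H : Subgroup G, ¬ Group.IsSolvable H → H = ⊤) : Hyp G := by
  intro H hH
  by_cases hs : Group.IsSolvable H
  swap
  · rw [htop H hs, Subgroup.normalizer_eq_top]
  have hne : H ≠ ⊥ := fun e => hH (isMulCommutative_of fun a ha b hb => by
    rw [e, Subgroup.mem_bot] at ha hb; rw [ha, hb])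
  obtain ⟨A, hAH, hA1, hAc, hAn⟩ := exists_abelian_char _ H le_rfl hne hs
  obtain ⟨a, ha, ha1⟩ := (Subgroup.bot_or_exists_ne_one A).resolve_left hA1
  set T := centralizer ({a} : Set G) with hT
  have hTA : centralizer (A : Set G) = T := le_antisymm
    (Subgroup.centralizer_le (Set.singleton_subset_iff.mpr ha)) fun t ht => Subgroup.mem_centralizer_iff.mpr fun b hb =>
      comm_of (hca a ha1) (Subgroup.mem_centralizer_singleton_iff.mpr (comm_of hAc hb ha)) ht
  have hMT : normalizer (H : Set G) ≤ normalizer (T : Set G) := hAn.trans (hTA ▸ normalizer_le_centralizer_normalizer A)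
  obtain ⟨h, hhH, hhT⟩ : ∃ h ∈ H, h ∉ T := by
    by_contra hh
    push Not at hh
    exact hH (isMulCommutative_of fun b hb c hc => comm_of (hca a ha1) (hh b hb) (hh c hc))
  have hhN : h ∈ normalizer (T : Set G) := hMT (Subgroup.le_normalizer hhH)
  have htop' : normalizer (T : Set G) ≤ T ⊔ zpowers h := by
    have hle : T ⊔ zpowers h ≤ normalizer (T : Set G) := sup_le Subgroup.le_normalizer (Subgroup.zpowers_le.mpr hhN)
    have hm := Subgroup.relIndex_mul_relIndex T (T ⊔ zpowers h) (normalizer (T : Set G)) le_sup_left hle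
    have hne1 : T.relIndex (T ⊔ zpowers h) ≠ 1 := fun e =>
      hhT (Subgroup.relIndex_eq_one.mp e (Subgroup.mem_sup_right (Subgroup.mem_zpowers h)))
    rcases hidx a ha1 with h1 | h1
    · rw [h1] at hm
      exact absurd (Nat.eq_one_of_mul_eq_one_right hm) hne1
    · rw [← hm, Nat.prime_mul_iff] at h1
      rcases h1 with ⟨-, e⟩ | ⟨-, e⟩
      · exact Subgroup.relIndex_eq_one.mp e
      · exact absurd e hne1
  refine le_antisymm (fun m hm => ?_) Subgroup.le_normalizer
  have hmem : m ∈ T ⊔ zpowers h := htop' (hMT hm)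
  rw [← SetLike.mem_coe, Subgroup.coe_mul_of_right_le_normalizer_left T (zpowers h)
    (Subgroup.zpowers_le.mpr hhN)] at hmem
  obtain ⟨t, ht, b, hb, rfl⟩ := hmem
  have hbH : b ∈ H := Subgroup.zpowers_le.mpr hhH hb
  show t * b ∈ H
  refine mul_mem ?_ hbH
  have htM : t ∈ normalizer (H : Set G) :=
    (Subgroup.mul_mem_cancel_right _ (Subgroup.le_normalizer hbH)).mp hm
  set M := normalizer (H : Set G)
  set S := T ⊓ M
  have hmap : ∀ s : S, (s : G) * h * (s : G)⁻¹ * h⁻¹ ∈ S ∧ (s : G) * h * (s : G)⁻¹ * h⁻¹ ∈ H := by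
    intro s
    have h1 : (s : G) * h * (s : G)⁻¹ * h⁻¹ ∈ H :=
      mul_mem ((Subgroup.mem_normalizer_iff.mp s.2.2 h).mp hhH) (inv_mem hhH)
    refine ⟨⟨?_, Subgroup.le_normalizer h1⟩, h1⟩
    rw [show (s : G) * h * (s : G)⁻¹ * h⁻¹ = s * (h * (s : G)⁻¹ * h⁻¹) by group]
    exact mul_mem s.2.1 ((Subgroup.mem_normalizer_iff.mp hhN _).mp (inv_mem s.2.1))
  have hinj : Function.Injective fun s : S => (⟨_, (hmap s).1⟩ : S) := by
    intro u v e
    have e' : (u : G) * h * (u : G)⁻¹ * h⁻¹ = v * h * (v : G)⁻¹ * h⁻¹ := congrArg Subtype.val e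
    by_contra huv
    have hc1 : (v : G)⁻¹ * u ≠ 1 := fun hc => huv (Subtype.ext (inv_mul_eq_one.mp hc).symm)
    have hcT : (v : G)⁻¹ * u ∈ T := mul_mem (inv_mem v.2.1) u.2.1
    have hcom : h * ((v : G)⁻¹ * u) = (v : G)⁻¹ * u * h := by
      have e'' := mul_right_cancel e'
      calc h * ((v : G)⁻¹ * u) = (v : G)⁻¹ * ((v : G) * h * (v : G)⁻¹) * u := by group
        _ = _ := by rw [← e'']; group
    refine hhT (Subgroup.mem_centralizer_singleton_iff.mpr ?_)
    exact comm_of (hca _ hc1) (Subgroup.mem_centralizer_singleton_iff.mpr hcom)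
      (Subgroup.mem_centralizer_singleton_iff.mpr (Subgroup.mem_centralizer_singleton_iff.mp hcT).symm)
  obtain ⟨s, hs⟩ := (Finite.injective_iff_surjective.mp hinj) ⟨t, ht, htM⟩
  have hval : (s : G) * h * (s : G)⁻¹ * h⁻¹ = t := congrArg Subtype.val hs
  exact hval ▸ (hmap s).2

/-- An odd-order subgroup of a group with abelian centralisers is solvable. -/
theorem solvable_of_odd {H : Type*} [Group H] [Finite H]
    (hca : ∀ a : H, a ≠ 1 → IsMulCommutative ↥(centralizer ({a} : Set H))) (K : Subgroup H)
    (hK : Odd (Nat.card K)) : Group.IsSolvable K :=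
  Cfsg.Agent.S0182.result hK fun x hx a ha b hb => Subtype.ext
    (comm_of (hca (x : H) fun e => hx (Subtype.ext e))
      (Subgroup.mem_centralizer_singleton_iff.mpr (congrArg Subtype.val (Subgroup.mem_centralizer_singleton_iff.mp ha)))
      (Subgroup.mem_centralizer_singleton_iff.mpr (congrArg Subtype.val (Subgroup.mem_centralizer_singleton_iff.mp hb))))

/-- The three cases for a group with abelian centralisers. -/
theorem cases_ca {H : Type*} [Group H] [Finite H]
    (hca : ∀ a : H, a ≠ 1 → IsMulCommutative ↥(centralizer ({a} : Set H))) :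
    Group.IsSolvable H ∨
    ∃ (F : Type) (_ : Field F) (_ : Fintype F) (A : Type) (_ : CommGroup A) (_ : Finite A), CharP F 2 ∧
      Odd (Nat.card A) ∧ Nonempty (H ≃* SL(2, F) × A) := by
  classical
  rcases Nat.even_or_odd (Nat.card H) with heven | hodd
  swap
  · haveI := solvable_of_odd hca ⊤ (by rwa [Subgroup.card_top])
    exact Or.inl (Group.isSolvable_of_surjective (f := (Subgroup.topEquiv (G := H)).toMonoidHom) Subgroup.topEquiv.surjective)
  rcases Cfsg.Agent.S2202.result heven (fun t ht => hca t fun e => by simp [e] at ht) with hc | hn | h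
  · refine Or.inl ?_
    obtain ⟨P⟩ : Nonempty (Sylow 2 H) := inferInstance
    haveI := Fact.mk Nat.prime_two
    have hmin : (Nat.card H).minFac = 2 := (Nat.minFac_eq_two_iff _).mpr heven.two_dvd
    have hle := IsCyclic.normalizer_le_centralizer hmin (hc P)
    have hK := MonoidHom.ker_transferSylow_isComplement' P hle
    haveI : Group.IsSolvable (MonoidHom.transferSylow P hle).ker := solvable_of_odd hca _ (by
      rw [← Nat.not_even_iff_odd, even_iff_two_dvd]
      exact MonoidHom.not_dvd_card_ker_transferSylow P hle)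
    haveI : Group.IsSolvable (P : Subgroup H) := by
      haveI := P.2.isNilpotent; infer_instance
    exact Group.isSolvable_of_ker_le_range (MonoidHom.transferSylow P hle).ker.subtype
      (MonoidHom.transferSylow P hle) (by simp)
  · refine Or.inl ?_
    obtain ⟨P⟩ : Nonempty (Sylow 2 H) := inferInstance
    haveI := Fact.mk Nat.prime_two
    haveI := hn P
    haveI : Group.IsSolvable (P : Subgroup H) := by
      haveI := P.2.isNilpotent; infer_instance
    obtain ⟨K, hK⟩ := Subgroup.exists_left_complement'_of_coprime P.card_coprime_index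
    haveI : Group.IsSolvable K := solvable_of_odd hca K (by
      rw [← hK.index_eq_card, ← Nat.not_even_iff_odd, even_iff_two_dvd]
      exact P.not_dvd_index)
    haveI : Group.IsSolvable (H ⧸ (P : Subgroup H)) :=
      Group.isSolvable_of_surjective (f := (QuotientGroup.mk' (P : Subgroup H)).comp K.subtype) fun y => by
        obtain ⟨g, rfl⟩ := QuotientGroup.mk'_surjective _ y
        obtain ⟨⟨k, b⟩, e⟩ := hK.2 g
        refine ⟨k, ?_⟩
        rw [← e]
        exact QuotientGroup.eq.mpr (by simp)
    exact Group.isSolvable_of_ker_le_range (P : Subgroup H).subtype (QuotientGroup.mk' (P : Subgroup H)) (by simp)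
  · exact Or.inr h

theorem char_two {F : Type*} [Field F] [Fintype F] {n : ℕ} (h : Fintype.card F = 2 ^ n) : CharP F 2 := by
  haveI := Fact.mk Nat.prime_two
  exact charP_of_card_eq_prime_pow h

theorem card_sl_even {F : Type*} [Field F] [Fintype F] {n : ℕ} (h : Fintype.card F = 2 ^ n) :
    Nat.card SL(2, F) = 2 ^ n * (4 ^ n - 1) := by
  rw [CfsgLib.Classical.card_sl2 h, ← pow_mul, mul_comm n 2, pow_mul]
  norm_num

theorem hyp_sl {F : Type*} [Field F] [Fintype F] {n : ℕ} (hF : Fintype.card F = 2 ^ n) (hn : 2 ≤ n)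
    (hp : (2 ^ n - 1).Prime) : Hyp SL(2, F) := by
  classical
  haveI := char_two hF
  refine hyp_of_ca (fun a ha => centralizer_comm_sl ha) (fun a ha => index_cases (by rw [hF]; exact hp) ha) ?_
  intro H hH
  rcases cases_ca (H := H) (fun a ha => isMulCommutative_of fun u hu v hv => Subtype.ext
    (comm_of (centralizer_comm_sl (a := (a : SL(2, F))) fun e => ha (Subtype.ext e))
      (Subgroup.mem_centralizer_singleton_iff.mpr (congrArg Subtype.val (Subgroup.mem_centralizer_singleton_iff.mp hu)))
      (Subgroup.mem_centralizer_singleton_iff.mpr (congrArg Subtype.val (Subgroup.mem_centralizer_singleton_iff.mp hv)))))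
    with hs | ⟨E, _, _, A, _, _, hE, -, ⟨e⟩⟩
  · exact absurd hs hH
  obtain ⟨q, hq, m, hq', hcard⟩ := FiniteField.card' E
  haveI := hq
  obtain rfl : q = 2 := CharP.eq E hq hE
  have hm1 : 1 ≤ (m : ℕ) := m.2
  have hcH : Nat.card H = 2 ^ (m : ℕ) * (4 ^ (m : ℕ) - 1) * Nat.card A := by
    rw [Nat.card_congr e.toEquiv, Nat.card_prod, card_sl_even hcard]
  have hdvd := Subgroup.card_subgroup_dvd_card H
  rw [hcH, card_sl_even hF] at hdvd
  rcases Nat.lt_or_ge (m : ℕ) 2 with hm2 | hm2
  · -- `SL₂(2)` is solvable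
    exfalso
    refine hH ?_
    have h6 : Nat.card SL(2, E) = 6 := by rw [card_sl_even hcard, show (m : ℕ) = 1 by omega]; norm_num
    haveI : IsZGroup SL(2, E) := IsZGroup.of_squarefree (by
      rw [h6, show (6 : ℕ) = 2 * 3 from rfl]
      exact (Nat.squarefree_mul (by norm_num)).mpr ⟨Nat.prime_two.squarefree, Nat.prime_three.squarefree⟩)
    haveI : Group.IsSolvable SL(2, E) := inferInstance
    haveI : Group.IsSolvable A := Group.isSolvable_of_comm mul_comm
    haveI : Group.IsSolvable (SL(2, E) × A) := inferInstance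
    exact Group.isSolvable_of_isSolvable_injective (f := e.toMonoidHom) e.injective
  have hcop : (4 ^ (m : ℕ) - 1).Coprime (2 ^ n) := by
    refine Nat.Coprime.pow_right n ((Nat.coprime_comm).mp (Nat.prime_two.coprime_iff_not_dvd.mpr ?_))
    rintro ⟨k, hk⟩
    obtain ⟨j, hj⟩ : 2 ∣ 4 ^ (m : ℕ) := dvd_pow (by norm_num) (by omega)
    have := Nat.one_le_pow (m : ℕ) 4 (by norm_num)
    omega
  have hd : 4 ^ (m : ℕ) - 1 ∣ 4 ^ n - 1 :=
    hcop.dvd_of_dvd_mul_left ((Dvd.intro_left _ rfl).trans ((Dvd.intro _ rfl).trans hdvd))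
  have hg : 4 ^ (m : ℕ).gcd n - 1 = 4 ^ (m : ℕ) - 1 := by
    rw [← Nat.pow_sub_one_gcd_pow_sub_one, Nat.gcd_eq_left hd]
  have hgm : (m : ℕ).gcd n = m := by
    have h1 := Nat.one_le_pow ((m : ℕ).gcd n) 4 (by norm_num)
    have h2 := Nat.one_le_pow (m : ℕ) 4 (by norm_num)
    exact Nat.pow_right_injective (a := 4) (by norm_num) (show 4 ^ (m : ℕ).gcd n = 4 ^ (m : ℕ) by omega)
  have hn' : n.Prime := Nat.Prime.of_mersenne hp
  have hmn : (m : ℕ) = n := ((Nat.dvd_prime hn').mp (hgm ▸ Nat.gcd_dvd_right _ _)).resolve_left (by omega)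
  refine Subgroup.eq_top_of_card_eq _ (Nat.le_antisymm (Subgroup.card_le_card_group _) ?_)
  rw [hcH, card_sl_even hF, hmn]
  exact Nat.le_mul_of_pos_right _ Nat.card_pos

theorem Hyp.of_equiv {K : Type*} [Group K] (e : G ≃* K) (h : Hyp G) : Hyp K := by
  intro H hH
  set H' := H.comap e.toMonoidHom with hH'
  have hn : ¬ IsMulCommutative H' := fun hc => hH (isMulCommutative_of fun a ha b hb => by
    have := congrArg e (comm_of hc (a := e.symm a) (b := e.symm b) (by simpa [hH'] using ha) (by simpa [hH'] using hb))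
    simpa using this)
  refine le_antisymm (fun g hg => ?_) Subgroup.le_normalizer
  have hg' : e.symm g ∈ normalizer (H' : Set G) := by
    refine Subgroup.mem_normalizer_iff.mpr fun x => ?_
    simp only [hH', Subgroup.mem_comap, MulEquiv.coe_toMonoidHom, map_mul, map_inv, MulEquiv.apply_symm_apply]
    exact Subgroup.mem_normalizer_iff.mp hg (e x)
  rw [h H' hn] at hg'
  simpa [hH'] using hg'

theorem center_sl_bot {F : Type*} [Field F] [CharP F 2] : Subgroup.center SL(2, F) = ⊥ := by
  refine (Subgroup.eq_bot_iff_forall _).mpr fun g hg => ?_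
  obtain ⟨r, hr, e⟩ := Matrix.SpecialLinearGroup.mem_center_iff.mp hg
  rw [Fintype.card_fin] at hr
  have h' : (r - 1) * (r - 1) = 0 := by
    linear_combination hr + (1 - r) * (CharTwo.two_eq_zero (R := F))
  refine Subtype.ext ?_
  rw [← e, sub_eq_zero.mp (mul_self_eq_zero.mp h'), map_one]
  rfl

/-- Changing the field. -/
noncomputable def slEquiv {E F : Type*} [Field E] [Field F] (f : E ≃+* F) : SL(2, E) ≃* SL(2, F) :=
  MulEquiv.ofBijective (SpecialLinearGroup.map (f : E →+* F))
    ⟨fun a b h => Subtype.ext (by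
      ext i j
      refine f.injective ?_
      simpa using congrArg (fun g : SL(2, F) => (g : Matrix (Fin 2) (Fin 2) F) i j) h),
    fun b => ⟨SpecialLinearGroup.map (f.symm : F →+* E) b, Subtype.ext (by ext i j; simp)⟩⟩

theorem main [IsSimpleGroup G] (hna : ¬ IsMulCommutative G) :
    Hyp G ↔ ∃ n : ℕ, 2 ≤ n ∧ (2 ^ n - 1).Prime ∧
      Nonempty (G ≃* Matrix.ProjectiveSpecialLinearGroup (Fin 2) (GaloisField 2 n)) := by
  classical
  constructor
  · intro h
    have hnsol : ¬ Group.IsSolvable G := fun hs =>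
      hna ⟨⟨fun a b => IsSimpleGroup.comm_iff_isSolvable.mpr hs a b⟩⟩
    obtain ⟨E, _, _, A, _, _, hE, -, ⟨e⟩⟩ :=
      (cases_ca fun a ha => centralizer_comm h hna ha).resolve_left hnsol
    obtain ⟨q, hq, m, hq', hcard⟩ := FiniteField.card' E
    obtain rfl : q = 2 := CharP.eq E hq hE
    haveI := hq
    have hA : Nat.card A = 1 := by
      rcases IsSimpleGroup.eq_bot_or_eq_top_of_normal ((MonoidHom.snd SL(2, E) A).comp e.toMonoidHom).ker
        inferInstance with hk | hk
      · exfalso
        exact hna ⟨⟨fun a b => (MonoidHom.ker_eq_bot_iff _).mp hk (by rw [map_mul, map_mul, mul_comm])⟩⟩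
      · refine Nat.card_eq_one_iff_unique.mpr ⟨⟨fun a b => ?_⟩, inferInstance⟩
        have key : ∀ a : A, a = 1 := fun a => by
          have h1 := MonoidHom.mem_ker.mp
            (show e.symm (1, a) ∈ ((MonoidHom.snd SL(2, E) A).comp e.toMonoidHom).ker from hk ▸ Subgroup.mem_top _)
          simpa using h1
        rw [key a, key b]
    haveI : Subsingleton A := (Nat.card_eq_one_iff_unique.mp hA).1
    haveI : Unique A := uniqueOfSubsingleton 1
    let f : G ≃* SL(2, E) := e.trans MulEquiv.prodUnique
    have hm2 : 2 ≤ (m : ℕ) := by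
      by_contra hm
      have hm0 : 1 ≤ (m : ℕ) := m.2
      have h6 : Nat.card SL(2, E) = 6 := by rw [card_sl_even hcard, show (m : ℕ) = 1 by omega]; norm_num
      haveI : IsZGroup SL(2, E) := IsZGroup.of_squarefree (by
      rw [h6, show (6 : ℕ) = 2 * 3 from rfl]
      exact (Nat.squarefree_mul (by norm_num)).mpr ⟨Nat.prime_two.squarefree, Nat.prime_three.squarefree⟩)
      exact hnsol (Group.isSolvable_of_isSolvable_injective (f := f.toMonoidHom) f.injective)
    refine ⟨m, hm2, ?_, ?_⟩
    · have := prime_of_hyp (F := E) (by rw [hcard]; exact le_trans (by norm_num) (Nat.pow_le_pow_right two_pos hm2))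
        (h.of_equiv f)
      rwa [hcard] at this
    · haveI : Fintype (GaloisField 2 m) := Fintype.ofFinite _
      have hc : Fintype.card E = Fintype.card (GaloisField 2 m) := by
        rw [hcard, ← Nat.card_eq_fintype_card, GaloisField.card 2 m (by omega)]
      haveI : CharP (GaloisField 2 m) 2 := inferInstance
      exact ⟨f.trans ((slEquiv (FiniteField.ringEquivOfCardEq hc)).trans
        (QuotientGroup.quotientBot.symm.trans (QuotientGroup.quotientMulEquivOfEq center_sl_bot.symm)))⟩
  · rintro ⟨n, hn, hp, ⟨e⟩⟩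
    haveI : Fintype (GaloisField 2 n) := Fintype.ofFinite _
    have hc : Fintype.card (GaloisField 2 n) = 2 ^ n := by
      rw [← Nat.card_eq_fintype_card, GaloisField.card 2 n (by omega)]
    exact (hyp_sl hc hn hp).of_equiv
      (QuotientGroup.quotientBot.symm.trans
        ((QuotientGroup.quotientMulEquivOfEq center_sl_bot.symm).trans e.symm))

end CfsgLib.Recognition.SelfNormal
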