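import Mathlib
import Cfsg.Agent.Lib.Fusion.Alperin

/-!
Finite groups in which every non-abelian subgroup is self-normalising: the automiser of an abelian subgroup
is trivial or of prime order, and in the simple case the Sylow subgroups and all centralisers are abelian.
-/

set_option autoImplicit false
set_option linter.style.haveILetI false

namespace CfsgLib.Recognition.SelfNormal

open Subgroup

/-- Every non-abelian subgroup is its own normaliser. -/
def Hyp (G : Type*) [Group G] : Prop :=
  ∀ H : Subgroup G, ¬ IsMulCommutative H → normalizer (H : Set G) = H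

variable {G : Type*} [Group G]

theorem comm_of {H : Subgroup G} (hH : IsMulCommutative H) {a b : G} (ha : a ∈ H) (hb : b ∈ H) : a * b = b * a :=
  congrArg Subtype.val (hH.is_comm.comm ⟨a, ha⟩ ⟨b, hb⟩)

theorem isMulCommutative_of {H : Subgroup G} (h : ∀ a ∈ H, ∀ b ∈ H, a * b = b * a) : IsMulCommutative H :=
  ⟨⟨fun a b => Subtype.ext (h a a.2 b b.2)⟩⟩

theorem normalizer_le_centralizer_normalizer (D : Subgroup G) :
    normalizer (D : Set G) ≤ normalizer ((centralizer (D : Set G) : Subgroup G) : Set G) := by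
  intro g hg
  have key : ∀ g ∈ normalizer (D : Set G), ∀ c ∈ centralizer (D : Set G), g * c * g⁻¹ ∈ centralizer (D : Set G) := by
    intro g hg c hc
    refine mem_centralizer_iff.mpr fun d hd => ?_
    have hd' : g⁻¹ * d * g ∈ D := by
      simpa using (mem_normalizer_iff.mp (inv_mem hg) d).mp hd
    calc d * (g * c * g⁻¹) = g * ((g⁻¹ * d * g) * c) * g⁻¹ := by group
      _ = g * (c * (g⁻¹ * d * g)) * g⁻¹ := by rw [mem_centralizer_iff.mp hc _ hd']
      _ = _ := by group
  refine mem_normalizer_iff.mpr fun c => ⟨key g hg c, fun hc => ?_⟩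
  simpa [mul_assoc] using key g⁻¹ (inv_mem hg) _ hc

/-- A finite cyclic group has one subgroup of each order. -/
theorem eq_of_card {P : Type*} [Group P] [Finite P] [IsCyclic P] {m : ℕ} {U V : Subgroup P}
    (hU : Nat.card U = m) (hV : Nat.card V = m) : U = V := by
  classical
  cases nonempty_fintype P
  set R : Finset P := Finset.univ.filter fun x : P => x ^ m = 1
  have key : ∀ W : Subgroup P, Nat.card W = m → (W : Set P).toFinset = R := fun W hW => by
    refine Finset.eq_of_subset_of_card_le (fun x hx => ?_) ?_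
    · rw [Finset.mem_filter, ← hW]
      exact ⟨Finset.mem_univ _, congrArg Subtype.val (pow_card_eq_one' (x := (⟨x, Set.mem_toFinset.mp hx⟩ : W)))⟩
    · rw [Set.toFinset_card, ← Nat.card_eq_fintype_card]
      exact (IsCyclic.card_pow_eq_one_le (hW ▸ Nat.card_pos)).trans hW.ge
  exact SetLike.coe_injective (Set.toFinset_inj.mp ((key U hU).trans (key V hV).symm))

/-- A finite group all of whose non-trivial subgroups are self-normalising is trivial or of prime order. -/
theorem prime_or_one {Q : Type*} [Group Q] [Finite Q]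
    (h : ∀ Y : Subgroup Q, Y ≠ ⊥ → normalizer (Y : Set Q) = Y) :
    Nat.card Q = 1 ∨ (Nat.card Q).Prime := by
  refine or_iff_not_imp_left.mpr fun h1 => ?_
  obtain ⟨p, hp, hd⟩ := Nat.exists_prime_and_dvd h1
  haveI := Fact.mk hp
  obtain ⟨x, hx⟩ := exists_prime_orderOf_dvd_card' p hd
  set X := zpowers x with hX
  have hXne : X ≠ ⊥ := by
    rw [Ne, zpowers_eq_bot, ← orderOf_eq_one_iff, hx]; exact hp.ne_one
  obtain ⟨P, hP⟩ := (IsPGroup.of_card (n := 1) (show Nat.card X = p ^ 1 by
    rw [Nat.card_zpowers, hx, pow_one])).exists_le_sylow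
  have hPX : (P : Subgroup Q) = X := by
    refine le_antisymm (fun y hy => ?_) hP
    by_contra hy'
    haveI := P.2.isNilpotent
    have hlt : X.subgroupOf P < ⊤ := by
      refine lt_top_iff_ne_top.mpr fun e => hy' ?_
      exact subgroupOf_eq_top.mp e hy
    obtain ⟨z, hz, hz'⟩ := SetLike.exists_of_lt
      (Group.normalizerCondition_of_isNilpotent (G := (P : Subgroup Q)) _ hlt)
    refine hz' ?_
    have : (z : Q) ∈ normalizer (X : Set Q) := by
      have h' := le_normalizer_map (P : Subgroup Q).subtype (mem_map_of_mem (P : Subgroup Q).subtype hz)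
      rwa [map_subgroupOf_eq_of_le hP] at h'
    rw [h X hXne] at this
    exact this
  haveI : IsCyclic X := inferInstance
  have hN : normalizer (P : Set Q) ≤ centralizer (P : Set Q) := by
    rw [show (P : Set Q) = ((P : Subgroup Q) : Set Q) from rfl, hPX, h X hXne]
    intro a ha
    refine mem_centralizer_iff.mpr fun b hb => ?_
    exact congrArg Subtype.val (IsCyclic.isMulCommutative.is_comm.comm (⟨b, hb⟩ : X) ⟨a, ha⟩)
  have hK := MonoidHom.ker_transferSylow_isComplement' P hN
  set K := (MonoidHom.transferSylow P hN).ker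
  by_cases hKb : K = ⊥
  · have := hK.card_mul
    rw [hKb, card_bot, one_mul, hPX, Nat.card_zpowers, hx] at this
    exact this ▸ hp
  · exfalso
    have hKt : K = ⊤ := by rw [← h K hKb, normalizer_eq_top]
    have := hK.disjoint
    rw [hKt, disjoint_iff, top_inf_eq, hPX] at this
    exact hXne this

variable [Finite G]

/-- The automiser of an abelian subgroup is trivial or of prime order; in the second case the centraliser is
abelian. -/
theorem prime_index (hG : Hyp G) {D : Subgroup G} (hD : IsMulCommutative D)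
    (hne : ¬ normalizer (D : Set G) ≤ centralizer (D : Set G)) :
    IsMulCommutative ↥(centralizer (D : Set G)) ∧
      ((centralizer (D : Set G)).relIndex (normalizer (D : Set G))).Prime := by
  set B := centralizer (D : Set G) with hB
  set N := normalizer (D : Set G) with hN
  have hDB : D ≤ B := fun d hd => mem_centralizer_iff.mpr fun e he => comm_of hD he hd
  have hBN : B ≤ N := centralizer_le_normalizer _
  have hself : ∀ X : Subgroup G, B ≤ X → X ≤ N → ¬ X ≤ B → normalizer (X : Set G) = X := by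
    intro X hBX hXN hX
    refine hG X fun hc => hX fun g hg => mem_centralizer_iff.mpr fun d hd => ?_
    exact comm_of hc (hBX (hDB hd)) hg
  refine ⟨by_contra fun hc => ?_, ?_⟩
  · have h1 := hG B hc
    exact hne ((normalizer_le_centralizer_normalizer D).trans h1.le)
  haveI : (B.subgroupOf N).Normal :=
    normal_subgroupOf_of_le_normalizer (normalizer_le_centralizer_normalizer D)
  set π := QuotientGroup.mk' (B.subgroupOf N)
  refine (prime_or_one (Q := N ⧸ B.subgroupOf N) fun Y hY => le_antisymm ?_ le_normalizer).resolve_left ?_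
  · set X := (Y.comap π).map N.subtype with hX
    have hBX : B ≤ X := fun b hb => ⟨⟨b, hBN hb⟩, by
      show π ⟨b, hBN hb⟩ ∈ Y
      rw [show π ⟨b, hBN hb⟩ = 1 from (QuotientGroup.eq_one_iff _).mpr (mem_subgroupOf.mpr hb)]
      exact one_mem Y, rfl⟩
    have hXs := hself X hBX (map_subtype_le _) fun hle => hY ((eq_bot_iff_forall _).mpr fun y hy => by
      obtain ⟨g, rfl⟩ := QuotientGroup.mk'_surjective _ y
      exact (QuotientGroup.eq_one_iff g).mpr (mem_subgroupOf.mpr (hle ⟨g, hy, rfl⟩)))
    intro y hy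
    obtain ⟨g, rfl⟩ := QuotientGroup.mk'_surjective _ y
    have hg : (g : G) ∈ normalizer (X : Set G) := by
      refine le_normalizer_map N.subtype (mem_map_of_mem N.subtype ?_)
      exact le_normalizer_comap π hy
    rw [hXs] at hg
    obtain ⟨g', hg', e⟩ := hg
    rw [← Subtype.ext e (a1 := g')]
    exact hg'
  · intro h1
    exact hne (relIndex_eq_one.mp h1)

theorem pow_index_mem {D : Subgroup G} {g : G} (hg : g ∈ normalizer (D : Set G)) :
    g ^ (centralizer (D : Set G)).relIndex (normalizer (D : Set G)) ∈ centralizer (D : Set G) := by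
  haveI : ((centralizer (D : Set G)).subgroupOf (normalizer (D : Set G))).Normal :=
    normal_subgroupOf_of_le_normalizer (normalizer_le_centralizer_normalizer D)
  exact mem_subgroupOf.mp (Subgroup.pow_index_mem ((centralizer (D : Set G)).subgroupOf _) ⟨g, hg⟩)

omit [Finite G] in
theorem mem_of_pow_mem {H : Subgroup G} {g : G} {m n : ℕ} (hmn : m.Coprime n) (hm : g ^ m ∈ H) (hn : g ^ n ∈ H) :
    g ∈ H := by
  have e : g ^ ((1 : ℤ)) = (g ^ m) ^ (Nat.gcdA m n) * (g ^ n) ^ (Nat.gcdB m n) := by
    rw [← zpow_natCast g m, ← zpow_natCast g n, ← zpow_mul, ← zpow_mul, ← zpow_add, ← Nat.gcd_eq_gcd_ab,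
      hmn.gcd_eq_one]
    rfl
  rw [zpow_one] at e
  rw [e]
  exact mul_mem (H.zpow_mem hm _) (H.zpow_mem hn _)

variable [IsSimpleGroup G]

/-- The Sylow subgroups are abelian. -/
theorem sylow_comm (hG : Hyp G) (hna : ¬ IsMulCommutative G) {p : ℕ} [hp : Fact p.Prime] (P : Sylow p G) :
    IsMulCommutative (P : Subgroup G) := by
  by_contra hP
  let bad : Subgroup G → Prop := fun D => IsPGroup p D ∧ IsMulCommutative D ∧
    ∃ u ∈ normalizer (D : Set G), (orderOf u).Coprime p ∧ u ∉ centralizer (D : Set G)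
  -- every larger bad subgroup
  have hgrow : ∀ D, bad D → ∃ R, bad R ∧ D < R := by
    rintro D ⟨hDp, hDc, u, hu, huo, huC⟩
    obtain ⟨hBc, hq⟩ := prime_index hG hDc fun h => huC (h hu)
    set B := centralizer (D : Set G)
    set q := B.relIndex (normalizer (D : Set G))
    have hqp : q ≠ p := fun e => huC (mem_of_pow_mem huo (by rw [pow_orderOf_eq_one]; exact one_mem B)
      (e ▸ pow_index_mem hu))
    let R : Subgroup G :=
      { carrier := {b | b ∈ B ∧ ∃ k : ℕ, b ^ p ^ k = 1}
        one_mem' := ⟨one_mem B, 0, one_pow _⟩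
        mul_mem' := fun {a b} ⟨ha, i, hi⟩ ⟨hb, j, hj⟩ => ⟨mul_mem ha hb, i + j, by
          rw [Commute.mul_pow (comm_of hBc ha hb), pow_add, pow_mul, hi, one_pow, one_mul, mul_comm, pow_mul, hj,
            one_pow]⟩
        inv_mem' := fun {a} ⟨ha, i, hi⟩ => ⟨inv_mem ha, i, by rw [inv_pow, hi, inv_one]⟩ }
    have hRB : R ≤ B := fun b hb => hb.1
    have hRp : IsPGroup p R := fun b => ⟨b.2.2.choose, Subtype.ext b.2.2.choose_spec⟩
    have hDR : D ≤ R := fun d hd => by
      obtain ⟨k, hk⟩ := hDp ⟨d, hd⟩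
      exact ⟨mem_centralizer_iff.mpr fun e he => comm_of hDc he hd, k, congrArg Subtype.val hk⟩
    have hRc : IsMulCommutative R := isMulCommutative_of fun a ha b hb => comm_of hBc (hRB ha) (hRB hb)
    have hNR : normalizer (D : Set G) ≤ normalizer (R : Set G) := by
      intro g hg
      have key : ∀ g ∈ normalizer (D : Set G), ∀ b ∈ R, g * b * g⁻¹ ∈ R := fun g hg b ⟨hb, k, hk⟩ =>
        ⟨(mem_normalizer_iff.mp (normalizer_le_centralizer_normalizer D hg) b).mp hb, k, by
          rw [conj_pow, hk, mul_one, mul_inv_cancel]⟩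
      exact mem_normalizer_iff.mpr fun b => ⟨key g hg b, fun hb => by
        simpa [mul_assoc] using key g⁻¹ (inv_mem hg) _ hb⟩
    refine ⟨R, ⟨hRp, hRc, u, hNR hu, huo, fun h => huC (centralizer_le (SetLike.coe_subset_coe.mpr hDR) h)⟩,
      lt_of_le_of_ne hDR fun e => ?_⟩
    obtain ⟨S, hS⟩ := hDp.exists_le_sylow
    by_cases hDS : D = S
    · exact hP (isMulCommutative_of fun a ha b hb => by
        obtain ⟨g, hg⟩ := MulAction.exists_smul_eq G S P
        rw [← hg, Sylow.coe_subgroup_smul, mem_pointwise_smul_iff_inv_smul_mem, ← hDS] at ha hb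
        have h1 := comm_of hDc ha hb
        rw [← smul_mul', ← smul_mul'] at h1
        exact MulAction.injective _ h1)
    · haveI := S.2.isNilpotent
      have hlt : D.subgroupOf S < ⊤ := lt_top_iff_ne_top.mpr fun e' =>
        hDS (le_antisymm hS (subgroupOf_eq_top.mp e'))
      obtain ⟨z, hz, hz'⟩ := SetLike.exists_of_lt
        (Group.normalizerCondition_of_isNilpotent (G := (S : Subgroup G)) _ hlt)
      have hzN : (z : G) ∈ normalizer (D : Set G) := by
        have h' := le_normalizer_map (S : Subgroup G).subtype (mem_map_of_mem (S : Subgroup G).subtype hz)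
        rwa [map_subgroupOf_eq_of_le hS] at h'
      obtain ⟨k, hk⟩ := S.2 z
      have hk' : (z : G) ^ p ^ k = 1 := by simpa using congrArg Subtype.val hk
      have hzB : (z : G) ∈ B := mem_of_pow_mem
        (Nat.Coprime.pow_left k ((Nat.coprime_primes hp.out hq).mpr hqp.symm))
        (by rw [hk']; exact one_mem B) (pow_index_mem hzN)
      exact hz' (mem_subgroupOf.mpr (e.ge ⟨hzB, k, hk'⟩))
  have hnone : ∀ D, ¬ bad D := by
    intro D hD
    obtain ⟨M, hM⟩ := (Set.toFinite {D | bad D}).exists_maximal ⟨D, hD⟩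
    obtain ⟨R, hR, hlt⟩ := hgrow M hM.1
    exact hlt.not_ge (hM.2 hR hlt.le)
  have hnpc : Cfsg.HasNormalPComplement p G := CfsgLib.Fusion.Alperin.npc_of_frobenius P fun Q hQ g hg hgo => by
    by_contra hgc
    by_cases hQc : IsMulCommutative Q
    · exact hnone Q ⟨P.2.to_le hQ, hQc, g, hg, hgo, hgc⟩
    · refine hgc ?_
      rw [hG Q hQc] at hg
      obtain ⟨k, hk⟩ := P.2 ⟨g, hQ hg⟩
      have h1 : orderOf g ∣ p ^ k := orderOf_dvd_of_pow_eq_one (congrArg Subtype.val hk)
      have : g = 1 := orderOf_eq_one_iff.mp (Nat.eq_one_of_dvd_coprimes (Nat.Coprime.pow_right k hgo) dvd_rfl h1)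
      rw [this]; exact one_mem _
  obtain ⟨S, N, hN, hc⟩ := hnpc
  rcases IsSimpleGroup.eq_bot_or_eq_top_of_normal N hN with rfl | rfl
  · have hS : (S : Subgroup G) = ⊤ := isComplement'_bot_left.mp hc
    haveI : Group.IsNilpotent G := by
      have := S.2.isNilpotent
      rw [hS] at this
      exact Group.nilpotent_of_mulEquiv topEquiv
    exact hna ⟨⟨fun a b => IsSimpleGroup.comm_iff_isSolvable.mpr inferInstance a b⟩⟩
  · have hS : (S : Subgroup G) = ⊥ := isComplement'_top_left.mp hc
    obtain ⟨g, hg⟩ := MulAction.exists_smul_eq G S P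
    refine hP (isMulCommutative_of fun a ha b hb => ?_)
    rw [← hg, Sylow.coe_subgroup_smul, hS, smul_bot, mem_bot] at ha hb
    rw [ha, hb]

/-- A centraliser of a non-identity element is abelian. -/
theorem centralizer_comm (hG : Hyp G) (hna : ¬ IsMulCommutative G) {y : G} (hy : y ≠ 1) :
    IsMulCommutative ↥(centralizer ({y} : Set G)) := by
  by_contra hCy
  obtain ⟨p, hp, hd⟩ := Nat.exists_prime_and_dvd (show orderOf y ≠ 1 from fun e => hy (orderOf_eq_one_iff.mp e))
  haveI := Fact.mk hp
  set x := y ^ (orderOf y / p) with hx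
  have hxo : orderOf x = p := orderOf_pow_orderOf_div (orderOf_pos y).ne' hd
  set C := centralizer ({x} : Set G) with hC
  have hCn : ¬ IsMulCommutative C := fun hc => hCy (isMulCommutative_of fun a ha b hb => comm_of hc
    (mem_centralizer_singleton_iff.mpr (Commute.pow_right (mem_centralizer_singleton_iff.mp ha) _).eq)
    (mem_centralizer_singleton_iff.mpr (Commute.pow_right (mem_centralizer_singleton_iff.mp hb) _).eq))
  have hNC : normalizer (C : Set G) = C := hG C hCn
  obtain ⟨P, hxP⟩ := (IsPGroup.of_card (n := 1) (show Nat.card (zpowers x) = p ^ 1 by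
    rw [Nat.card_zpowers, hxo, pow_one])).exists_le_sylow
  have hxP' : x ∈ (P : Subgroup G) := hxP (mem_zpowers x)
  have hPc := sylow_comm hG hna P
  have hBC : centralizer ((P : Subgroup G) : Set G) ≤ C :=
    centralizer_le (Set.singleton_subset_iff.mpr hxP')
  have hPB : (P : Subgroup G) ≤ centralizer ((P : Subgroup G) : Set G) :=
    fun a ha => mem_centralizer_iff.mpr fun b hb => comm_of hPc hb ha
  -- `x` is not centralised by `N(P)`
  have hnot : ¬ normalizer ((P : Subgroup G) : Set G) ≤ C := by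
    intro hle
    haveI : (P : Subgroup G).FiniteIndex := inferInstance
    letI : CommGroup (P : Subgroup G) :=
      { (inferInstance : Group (P : Subgroup G)) with mul_comm := fun a b => hPc.is_comm.comm a b }
    have key : ∀ (k : ℕ) (g₀ : G), g₀⁻¹ * x ^ k * g₀ ∈ (P : Subgroup G) → g₀⁻¹ * x ^ k * g₀ = x ^ k := by
      intro k g₀ hg₀
      obtain ⟨n, hn, e⟩ := Sylow.conj_eq_normalizer_conj_of_mem_centralizer P (x ^ k) g₀
        (hPB (pow_mem hxP' k)) (hPB hg₀)
      have hc : Commute n (x ^ k) := Commute.pow_right (mem_centralizer_singleton_iff.mp (hle hn)) k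
      rw [e, mul_assoc, ← hc.eq, inv_mul_cancel_left]
    have h1 := MonoidHom.transfer_eq_pow (MonoidHom.id (P : Subgroup G)) x key
    rcases IsSimpleGroup.eq_bot_or_eq_top_of_normal
      (MonoidHom.transfer (MonoidHom.id (P : Subgroup G))).ker inferInstance with hk | hk
    · exact hna ⟨⟨fun a b => (MonoidHom.ker_eq_bot_iff _).mp hk (by rw [map_mul, map_mul, mul_comm])⟩⟩
    · have h2 : MonoidHom.transfer (MonoidHom.id (P : Subgroup G)) x = 1 :=
        MonoidHom.mem_ker.mp (hk ▸ mem_top x)
      rw [h1] at h2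
      have h3 : x ^ (P : Subgroup G).index = 1 := congrArg Subtype.val h2
      have h4 := orderOf_dvd_of_pow_eq_one h3
      rw [hxo] at h4
      exact P.not_dvd_index h4
  obtain ⟨u, hu, huC⟩ := SetLike.not_le_iff_exists.mp hnot
  obtain ⟨-, hq⟩ := prime_index hG hPc fun h => huC (hBC (h hu))
  have hinter : normalizer ((P : Subgroup G) : Set G) ⊓ C ≤ centralizer ((P : Subgroup G) : Set G) := by
    have hm := relIndex_mul_relIndex (centralizer ((P : Subgroup G) : Set G))
      (normalizer ((P : Subgroup G) : Set G) ⊓ C) (normalizer ((P : Subgroup G) : Set G))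
      (le_inf (centralizer_le_normalizer _) hBC) inf_le_left
    rw [← hm, Nat.prime_mul_iff] at hq
    rcases hq with ⟨-, h⟩ | ⟨-, h⟩
    · exact absurd (relIndex_eq_one.mp h) fun h' => huC (h' hu).2
    · exact relIndex_eq_one.mp h
  -- the normal complement of `P` in `C`
  have hPC : (P : Subgroup G) ≤ C := hPB.trans hBC
  set P' : Sylow p C := P.subtype hPC with hP'
  have hP'm : (P' : Subgroup C).map C.subtype = P := by
    rw [hP', Sylow.coe_subtype, map_subgroupOf_eq_of_le hPC]
  have hN' : normalizer (P' : Set C) ≤ centralizer (P' : Set C) := by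
    intro c hc
    have h1 : (c : G) ∈ normalizer ((P : Subgroup G) : Set G) := by
      have h' := le_normalizer_map C.subtype (mem_map_of_mem C.subtype hc)
      rwa [hP'm] at h'
    refine mem_centralizer_iff.mpr fun d hd => Subtype.ext ?_
    exact mem_centralizer_iff.mp (hinter ⟨h1, c.2⟩) d (hP'm ▸ mem_map_of_mem C.subtype hd)
  have hK := MonoidHom.ker_transferSylow_isComplement' P' hN'
  set K' := (MonoidHom.transferSylow P' hN').ker with hK'
  set K := K'.map C.subtype with hKdef
  have hKn : C ≤ normalizer (K : Set G) := fun c hc => by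
    have : (⟨c, hc⟩ : C) ∈ normalizer (K' : Set C) := by rw [normalizer_eq_top]; exact mem_top _
    exact le_normalizer_map C.subtype (mem_map_of_mem C.subtype this)
  have hKP : ∀ g ∈ K, g ∈ (P : Subgroup G) → g = 1 := by
    rintro _ ⟨c, hc, rfl⟩ hg
    have : c ∈ K' ⊓ (P' : Subgroup C) := ⟨hc, by rw [hP', Sylow.coe_subtype]; exact mem_subgroupOf.mpr hg⟩
    rw [hK.disjoint.eq_bot, mem_bot] at this
    rw [this, map_one]
  have hKc : IsMulCommutative K := by
    by_contra hK2
    have h1 := hG K hK2
    have h2 : x ∈ K := h1.le (hKn (mem_centralizer_singleton_iff.mpr rfl))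
    have h3 := hKP x h2 hxP'
    rw [h3, orderOf_one] at hxo
    exact hp.ne_one hxo.symm
  obtain ⟨t, ht, htK⟩ : ∃ t ∈ (P : Subgroup G), ∃ k ∈ K, t * k ≠ k * t := by
    by_contra hh
    push Not at hh
    refine hCn (isMulCommutative_of fun a ha b hb => ?_)
    obtain ⟨⟨k₁, p₁⟩, e₁⟩ := hK.2 ⟨a, ha⟩
    obtain ⟨⟨k₂, p₂⟩, e₂⟩ := hK.2 ⟨b, hb⟩
    have ea : a = (k₁ : C) * (p₁ : C) := by rw [← Subgroup.coe_mul]; exact congrArg Subtype.val e₁.symm
    have eb : b = (k₂ : C) * (p₂ : C) := by rw [← Subgroup.coe_mul]; exact congrArg Subtype.val e₂.symm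
    have m₁ : ((k₁ : C) : G) ∈ K := mem_map_of_mem C.subtype k₁.2
    have m₂ : ((k₂ : C) : G) ∈ K := mem_map_of_mem C.subtype k₂.2
    have n₁ : ((p₁ : C) : G) ∈ (P : Subgroup G) := hP'm ▸ mem_map_of_mem C.subtype p₁.2
    have n₂ : ((p₂ : C) : G) ∈ (P : Subgroup G) := hP'm ▸ mem_map_of_mem C.subtype p₂.2
    rw [ea, eb]
    exact Commute.mul_left (Commute.mul_right (comm_of hKc m₁ m₂) (hh _ n₂ _ m₁).symm)
      (Commute.mul_right (hh _ n₁ _ m₂) (comm_of hPc n₁ n₂))
  obtain ⟨k₀, hk₀, htk⟩ := htK
  set U := K ⊔ zpowers t with hU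
  have hUn : ¬ IsMulCommutative U := fun hc =>
    htk (comm_of hc (mem_sup_right (mem_zpowers t)) (mem_sup_left hk₀))
  have hPU : (P : Subgroup G) ≤ normalizer (U : Set G) := by
    intro a ha
    refine mem_normalizer_fintype fun g hg => ?_
    have h1 : U.map (MulAut.conj a).toMonoidHom ≤ U := by
      rw [hU, Subgroup.map_sup]
      refine sup_le ?_ ?_
      · rintro _ ⟨b, hb, rfl⟩
        exact mem_sup_left ((mem_normalizer_iff.mp (hKn (hPC ha)) b).mp hb)
      · rintro _ ⟨b, hb, rfl⟩
        refine mem_sup_right ?_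
        show a * b * a⁻¹ ∈ zpowers t
        rw [comm_of hPc ha (zpowers_le.mpr ht hb), mul_inv_cancel_right]
        exact hb
    exact h1 (mem_map_of_mem _ hg)
  have htn : zpowers t ≤ normalizer (K : Set G) := zpowers_le.mpr (hKn (hPC ht))
  have hPt : (P : Subgroup G) ≤ zpowers t := fun a ha => by
    have haU : a ∈ U := (hG U hUn).le (hPU ha)
    rw [hU, ← SetLike.mem_coe, coe_mul_of_right_le_normalizer_left K (zpowers t) htn] at haU
    obtain ⟨k, hk, b, hb, rfl⟩ := haU
    have hbP : b ∈ (P : Subgroup G) := zpowers_le.mpr ht hb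
    show k * b ∈ zpowers t
    rw [hKP k hk ((Subgroup.mul_mem_cancel_right _ hbP).mp ha), one_mul]
    exact hb
  haveI : IsCyclic (P : Subgroup G) := by
    have e : (P : Subgroup G) = zpowers t := le_antisymm hPt (zpowers_le.mpr ht)
    rw [e]; infer_instance
  have hconj : u * x * u⁻¹ ∈ (P : Subgroup G) := (mem_normalizer_iff.mp hu x).mp hxP'
  have hzz : zpowers (u * x * u⁻¹) = zpowers x := by
    have huo : orderOf (u * x * u⁻¹) = p := by
      rw [← hxo]; exact orderOf_injective (MulAut.conj u).toMonoidHom (MulEquiv.injective _) x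
    have h1 : (zpowers (⟨u * x * u⁻¹, hconj⟩ : (P : Subgroup G))) = zpowers ⟨x, hxP'⟩ := by
      refine CfsgLib.Recognition.SelfNormal.eq_of_card (m := p) ?_ ?_
      · rw [Nat.card_zpowers, orderOf_mk, huo]
      · rw [Nat.card_zpowers, orderOf_mk, hxo]
    have h2 := congrArg (Subgroup.map (P : Subgroup G).subtype) h1
    rwa [MonoidHom.map_zpowers, MonoidHom.map_zpowers] at h2
  have hun : u ∈ normalizer (zpowers x : Set G) := by
    refine mem_normalizer_fintype ?_
    intro a ha
    obtain ⟨i, rfl⟩ := mem_zpowers_iff.mp ha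
    rw [← conj_zpow]
    exact (zpowers x).zpow_mem (hzz.le (mem_zpowers _)) i
  refine huC (hNC.le ?_)
  have h' := normalizer_le_centralizer_normalizer (zpowers x) hun
  have hcx : centralizer ((zpowers x : Subgroup G) : Set G) = C := by
    rw [hC]
    exact le_antisymm (centralizer_le (Set.singleton_subset_iff.mpr (mem_zpowers x)))
      fun c hc => mem_centralizer_iff.mpr fun z hz => by
        obtain ⟨i, rfl⟩ := mem_zpowers_iff.mp hz
        exact (Commute.zpow_left (mem_centralizer_singleton_iff.mp hc).symm i).eq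
  rwa [hcx] at h'

end CfsgLib.Recognition.SelfNormal
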